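import Groth.Agent.KoszMul22.Top
import Groth.Agent.KoszPn17.ProjSpace
import Groth.Agent.Clifford24.Lipman.Castelnuovo
import Groth.Agent.CurveRR24.VeryAmple
import Groth.Agent.SerreDual.ProjDualAll
import Groth.Agent.PicDef15.StepCoh
import Groth.Agent.CurveRR24.RR

/-!
# Surjectivity of multiplication by sections from twisted Koszul vanishing
-/

set_option autoImplicit false
set_option backward.isDefEq.respectTransparency false
set_option maxHeartbeats 800000

universe u

open CategoryTheory CategoryTheory.Limits AlgebraicGeometry Opposite TopologicalSpace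
open Groth.Agent Groth.Agent.Coherent Groth.Agent.PicLib Groth.Agent.AmpleLib Groth.Agent.EulerLib Groth.Agent.KoszPn17

namespace Groth.Agent.KoszMul22

variable {X : Scheme.{u}}

attribute [local instance] Abelian.hasFiniteBiproducts

/-- Kernels in an exact complex bounded below have vanishing cohomology in the matching degrees. -/
theorem subsingleton_HH_kernel (K : CochainComplex X.Modules ℤ) (hex : ∀ i, K.ExactAt i) (m : ℕ)
    (hz : ∀ i : ℤ, i < -(m : ℤ) → IsZero (K.X i))
    (h : ∀ (q : ℕ) (i : ℤ), 1 ≤ q → q < m → i = -(q : ℤ) - 1 → Subsingleton (Coh.HH X (K.X i) q)) :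
    ∀ (r q : ℕ) (i j : ℤ), m + 1 ≤ q + r → 1 ≤ q → i = -(q : ℤ) → i + 1 = j →
      Subsingleton (Coh.HH X (kernel (K.d i j)) q) := by
  intro r
  induction r with
  | zero =>
    intro q i j hq _ hi _
    exact subsingleton_HH_of_isZero (IsZero.of_mono (kernel.ι (K.d i j)) (hz i (by omega))) q
  | succ r ih =>
    intro q i j hq hq1 hi hij
    obtain ⟨p, hp⟩ : ∃ p : ℤ, p + 1 = i := ⟨i - 1, by omega⟩
    let S : ShortComplex X.Modules := ShortComplex.mk (kernel.ι (K.d p i)) (kernel.lift (K.d i j) (K.d p i) (K.d_comp_d p i j))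
      (by rw [← cancel_mono (kernel.ι (K.d i j)), Category.assoc, kernel.lift_ι, kernel.condition, zero_comp])
    have hepi : Epi S.g :=
      (ShortComplex.exact_iff_epi_kernel_lift (K.sc' p i j)).1
        ((K.exactAt_iff' p i j (by simp; omega) (by simp; omega)).1 (hex i))
    have hS : S.ShortExact :=
      { exact := ShortComplex.exact_of_f_is_kernel S
          (KernelFork.IsLimit.ofι _ _
            (fun {W} g hg => kernel.lift (K.d p i) g (by
              have := congrArg (· ≫ kernel.ι (K.d i j)) hg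
              simpa [S] using this))
            (fun {W} g hg => kernel.lift_ι _ _ _)
            (fun {W} g hg b hb => by rw [← cancel_mono (kernel.ι (K.d p i)), kernel.lift_ι]; exact hb)) }
    refine Lipman24.subsingleton_HH_X₃ hS q ?_ (ih (q + 1) p i (by omega) (by omega) (by push_cast; omega) hp)
    by_cases hqm : q < m
    · exact h q p hq1 hqm (by omega)
    · exact subsingleton_HH_of_isZero (hz p (by omega)) q

/-- Sections at the top of an exact complex. -/
theorem surjective_top (K : CochainComplex X.Modules ℤ) (hex : ∀ i, K.ExactAt i) (m : ℕ)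
    (hz : ∀ i : ℤ, i < -(m : ℤ) → IsZero (K.X i)) (hz1 : IsZero (K.X 1))
    (h : ∀ (q : ℕ) (i : ℤ), 1 ≤ q → q < m → i = -(q : ℤ) - 1 → Subsingleton (Coh.HH X (K.X i) q)) :
    Function.Surjective ((K.d (-1) 0).app ⊤) := by
  let S : ShortComplex X.Modules := ShortComplex.mk (kernel.ι (K.d (-1) 0)) (K.d (-1) 0) (kernel.condition _)
  haveI : Epi (K.d (-1) 0) := ((K.sc' (-1) 0 1).exact_iff_epi (hz1.eq_of_tgt _ _)).1
    ((K.exactAt_iff' (-1) 0 1 (by simp) (by simp)).1 (hex 0))
  have hS : S.ShortExact := { exact := ShortComplex.exact_kernel _ }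
  exact Lipman24.surjective_app_top hS
    (subsingleton_HH_kernel K hex m hz h (m + 1) 1 (-1) 0 (by omega) le_rfl (by simp) (by omega))

/-- Multiplication operators: the top map is surjective on global sections. -/
theorem surjective_desc_top (n : ℕ) (T : ℤ → X.Modules) (μ : Fin (n + 1) → ∀ b, T b ⟶ T (b + 1))
    (hμ : ∀ i j b, μ i b ≫ μ j (b + 1) = μ j b ≫ μ i (b + 1)) (U : Fin (n + 1) → X.Opens)
    (hU : ∀ y : X, ∃ j, y ∈ U j) (hiso : ∀ j b, IsIso ((Scheme.Modules.restrictFunctor (U j).ι).map (μ j b)))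
    [NoetherianSpace X] (b : ℤ)
    (hvan : ∀ q : ℕ, 1 ≤ q → q ≤ n → Subsingleton (Coh.HH X (T (b - q)) q)) :
    Function.Surjective ((biproduct.desc (fun s : Fin (n + 1) => μ s b)).app ⊤) := by
  let S := (Stage.base T μ hμ).iter (List.finRange (n + 1))
  have hshape : IsKoszulShape T (n + 1) S.K := by
    simpa using isKoszulShape_iter T μ hμ (List.finRange (n + 1))
  have htop : TopData T μ (n + 1) S := by
    simpa using topData_iter T μ hμ (List.finRange (n + 1))
  have hex : ∀ (a k : ℤ), (S.K a).ExactAt k := fun a k => by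
    rw [HomologicalComplex.exactAt_iff_isZero_homology]
    refine DQCoh.isZero_of_restrict_cover _ (fun j : ULift.{u} (Fin (n + 1)) => U j.down) (fun y => ?_) fun j => ?_
    · obtain ⟨j, hj⟩ := hU y
      exact ⟨⟨j⟩, hj⟩
    · have h0 := isZero_img_iter (Scheme.Modules.restrictFunctor (U j.down).ι) T μ hμ j.down (hiso j.down)
        (List.finRange (n + 1)) (List.mem_finRange _) a
      exact ((HomologicalComplex.exactAt_iff_isZero_homology _ _).1 (exactAt_img _ _ h0 k)).of_iso
        (((S.K a).sc k).mapHomologyIso (Scheme.Modules.restrictFunctor (U j.down).ι)).symm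
  obtain ⟨hz, j, hj, -, hl⟩ := htop
  let a : ℤ := b - n
  have hb : b + 1 = a + ((n + 1 : ℕ) : ℤ) := by simp [a]; omega
  obtain ⟨l, hl⟩ := hl a b hb
  have hd := surjective_top (S.K a) (hex a) (n + 1) (fun i hi => hshape.isZero_of_lt a i hi) (hz a 1 (by omega))
    (fun q i hq hqn hi => by
      obtain ⟨e⟩ := hshape.1 a (q + 1)
      have hi' : i = -((q + 1 : ℕ) : ℤ) := by push_cast; omega
      subst hi'
      have hT : a + ((n + 1 : ℕ) : ℤ) - ((q + 1 : ℕ) : ℤ) = b - q := by simp [a]; omega
      haveI := hvan q hq (by omega)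
      let e' := e ≪≫ Sigma.mapIso (fun _ => eqToIso (congrArg T hT)) ≪≫ (biproduct.isoCoproduct _).symm
      exact CurveRR24.subsingleton_HH_congr e'.symm q
        (PicDef15.subsingleton_HH_biproduct _ q fun _ => hvan q hq (by omega)))
  intro z
  haveI := hj a b hb
  obtain ⟨w, hw⟩ := hd ((j a b hb).app ⊤ z)
  refine ⟨l.app ⊤ w, (ConcreteCategory.bijective_of_isIso ((j a b hb).app ⊤)).1 ?_⟩
  rw [← hw, ← hl]
  rfl

/-- If a combination of sections generates at a point, one of them does. -/
theorem exists_mem_glocus_of_sum {L : X.Modules} (hL : PicF.IsInvertible L) {ι : Type*} [Fintype ι]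
    (s : ι → Γ(L, ⊤)) (c : ι → Γ(X, ⊤)) {x : X} (hx : x ∈ glocus L (∑ i, c i • s i)) :
    ∃ i, x ∈ glocus L (s i) := by
  by_contra hne
  push Not at hne
  refine ((CurveRR24.mem_glocus_iff_germ hL _ x).1 hx) ?_
  rw [map_sum]
  refine Submodule.sum_mem _ fun i _ => ?_
  refine Set.mem_of_eq_of_mem (PresheafOfModules.germ_smul L.val x ⊤ trivial (c i) (s i)) ?_
  refine Submodule.smul_mem _ _ ?_
  by_contra h
  exact hne i ((CurveRR24.mem_glocus_iff_germ hL _ x).2 h)

end Groth.Agent.KoszMul22
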