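import Groth.Agent.KoszPn17.Cone

/-!
# The top differential of iterated cones of commuting operators

In the complex built by iterated cones, the term in degree `0` is `T (a + m)` and the differential into it
factors through the joint map of the operators.
-/

set_option autoImplicit false
set_option backward.isDefEq.respectTransparency false

universe v u

open CategoryTheory CategoryTheory.Limits CochainComplex Groth.Agent.KoszPn17

namespace Groth.Agent.KoszMul22

attribute [local instance] Abelian.hasFiniteBiproducts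

variable {C : Type u} [Category.{v} C] [Abelian C] {J : Type} [Fintype J]

/-- The degree `0` term is `T (b + 1)`, and the differential into it factors through all the operators. -/
def TopData (T : ℤ → C) (μ : J → ∀ a, T a ⟶ T (a + 1)) (m : ℕ) (S : Stage C J) : Prop :=
  (∀ (a i : ℤ), 0 < i → IsZero ((S.K a).X i)) ∧
  ∃ j : ∀ a b : ℤ, b + 1 = a + m → (T (b + 1) ⟶ (S.K a).X 0),
    (∀ a b h, IsIso (j a b h)) ∧
    (∀ s (a b : ℤ) (h : b + 1 = a + m) (h' : (b + 1) + 1 = (a + 1) + m),
      μ s (b + 1) ≫ j (a + 1) (b + 1) h' = j a b h ≫ (S.M s a).f 0) ∧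
    ∀ a b h, ∃ l : (S.K a).X (-1) ⟶ ⨁ fun _ : J => T b,
      l ≫ biproduct.desc (fun s => μ s b) ≫ j a b h = (S.K a).d (-1) 0

theorem eqToHom_μ (T : ℤ → C) (μ : J → ∀ a, T a ⟶ T (a + 1)) (s : J) {a b : ℤ} (h : b = a)
    (h₁ : T (b + 1) = T (a + 1)) (h₂ : T b = T a) : μ s b ≫ eqToHom h₁ = eqToHom h₂ ≫ μ s a := by
  subst h; simp

theorem topData_base (T : ℤ → C) (μ : J → ∀ a, T a ⟶ T (a + 1))
    (hμ : ∀ i j a, μ i a ≫ μ j (a + 1) = μ j a ≫ μ i (a + 1)) : TopData T μ 0 (Stage.base T μ hμ) := by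
  refine ⟨fun a i hi => HomologicalComplex.isZero_single_obj_X _ _ _ _ (by omega),
    fun a b h => eqToHom (show T (b + 1) = T a from congrArg T (by omega)) ≫
      (HomologicalComplex.singleObjXSelf (ComplexShape.up ℤ) 0 (T a)).inv,
    fun a b h => inferInstance, fun s a b h h' => ?_, fun a b h => ⟨0, ?_⟩⟩
  · have e := eqToHom_μ T μ s (show b + 1 = a by omega) (congrArg T (show b + 1 + 1 = a + 1 by omega))
      (congrArg T (show b + 1 = a by omega))
    rw [reassoc_of% e]
    simp [Stage.base, HomologicalComplex.single_map_f_self]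
  · rw [zero_comp]
    exact ((HomologicalComplex.isZero_single_obj_X (ComplexShape.up ℤ) 0 (T a) (-1) (by omega)).eq_of_src _ _)

theorem topData_step (T : ℤ → C) (μ : J → ∀ a, T a ⟶ T (a + 1)) {m : ℕ} {S : Stage C J}
    (h : TopData T μ m S) (t : J) : TopData T μ (m + 1) (S.step t) := by
  obtain ⟨hz, j, hiso, hcomm, hl⟩ := h
  have hsnd : ∀ a : ℤ, IsIso ((mappingCone.inr (S.M t a)).f 0) := fun a => by
    refine ⟨⟨(mappingCone.snd (S.M t a)).v 0 0 (add_zero 0), mappingCone.inr_f_snd_v _ 0, ?_⟩⟩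
    rw [← mappingCone.id_X (S.M t a) 0 1 rfl]
    rw [(hz a 1 (by omega)).eq_of_tgt ((mappingCone.fst (S.M t a)).1.v 0 1 rfl) 0, zero_comp, zero_add]
  refine ⟨fun a i hi => ?_, fun a b h => j (a + 1) b (by push_cast at h; omega) ≫ (mappingCone.inr (S.M t a)).f 0,
    fun a b h => ?_, fun s a b h h' => ?_, fun a b h => ?_⟩
  · exact IsZero.of_iso ((biprod_isZero_iff _ _).2 ⟨hz a (i + 1) (by omega), hz (a + 1) i hi⟩)
      (HomologicalComplex.homotopyCofiber.XIsoBiprod (S.M t a) i (i + 1) rfl)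
  · haveI := hiso (a + 1) b (by push_cast at h; omega)
    haveI := hsnd a
    infer_instance
  · have e := hcomm s (a + 1) b (by push_cast at h; omega) (by push_cast at h'; omega)
    show μ s (b + 1) ≫ j (a + 1 + 1) (b + 1) _ ≫ _ = (j (a + 1) b _ ≫ _) ≫ _
    rw [reassoc_of% e]
    simp [Stage.step, mappingCone.map]
  · obtain ⟨b', rfl⟩ : ∃ b', b = b' + 1 := ⟨b - 1, by omega⟩
    have h0 : b' + 1 = a + (m : ℤ) := by push_cast at h; omega
    have h1 : b' + 1 + 1 = a + 1 + (m : ℤ) := by omega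
    obtain ⟨l, hl'⟩ := hl (a + 1) (b' + 1) h1
    haveI := hiso a b' h0
    refine ⟨(mappingCone.fst (S.M t a)).1.v (-1) 0 (by omega) ≫ inv (j a b' h0) ≫
        biproduct.ι (fun _ : J => T (b' + 1)) t +
      (mappingCone.snd (S.M t a)).v (-1) (-1) (add_zero _) ≫ l, ?_⟩
    refine (mappingCone.ext_from_iff (S.M t a) 0 (-1) (by omega) _ _).2 ⟨?_, ?_⟩
    · have e1 : (mappingCone.inl (S.M t a)).v 0 (-1) (by omega) ≫ (mappingCone (S.M t a)).d (-1) 0 =
          (S.M t a).f 0 ≫ (mappingCone.inr (S.M t a)).f 0 := by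
        rw [mappingCone.inl_v_d (S.M t a) 0 (-1) 1 (by omega) (by omega),
          (hz a 1 (by omega)).eq_of_tgt ((S.K a).d 0 1) 0, zero_comp, sub_zero]
      show _ = (mappingCone.inl (S.M t a)).v 0 (-1) (by omega) ≫ (mappingCone (S.M t a)).d (-1) 0
      rw [e1]
      simp [reassoc_of% (hcomm t a b' h0 h1)]
    · have e2 : (mappingCone.inr (S.M t a)).f (-1) ≫ (mappingCone (S.M t a)).d (-1) 0 =
          (S.K (a + 1)).d (-1) 0 ≫ (mappingCone.inr (S.M t a)).f 0 :=
        (mappingCone.inr (S.M t a)).comm (-1) 0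
      show _ = (mappingCone.inr (S.M t a)).f (-1) ≫ (mappingCone (S.M t a)).d (-1) 0
      rw [e2, ← hl']
      simp

theorem topData_iter (T : ℤ → C) (μ : J → ∀ a, T a ⟶ T (a + 1))
    (hμ : ∀ i j a, μ i a ≫ μ j (a + 1) = μ j a ≫ μ i (a + 1)) (l : List J) :
    TopData T μ l.length ((Stage.base T μ hμ).iter l) := by
  induction l with
  | nil => exact topData_base T μ hμ
  | cons s l ih => exact topData_step T μ ih s

end Groth.Agent.KoszMul22
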